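import Mathlib.RingTheory.RingHom.Flat
import Mathlib.RingTheory.Ideal.GoingDown
import Mathlib.RingTheory.Ideal.GoingUp
import Mathlib.RingTheory.Flat.Localization
import Mathlib.RingTheory.Polynomial.Quotient
import Mathlib.RingTheory.Algebraic.Integral
import Mathlib.RingTheory.AlgebraicIndependent.TranscendenceBasis
import Mathlib.RingTheory.AlgebraicIndependent.Adjoin
import Mathlib.RingTheory.TensorProduct.MvPolynomial
/-! # Gluing two field extensions without losing transcendence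

* `Groth.PairTrdeg.exists_prime_minimal`: two fields `K₁, K₂` over `K` (algebraic over `R`) admit a prime of
  `K₁ ⊗_R K₂` killing `a ⊗ 1 - 1 ⊗ a` and minimal over `R₁ ⊗_R R₂`.
* `Groth.PairTrdeg.exists_glue`: consequence with polynomial rings.
-/

universe u

open scoped TensorProduct

namespace Groth.PairTrdeg

theorem coeff_mem_of_minimal {σ B : Type u} [CommRing B] {P : Ideal (MvPolynomial σ B)}
    (hP : P ∈ minimalPrimes (MvPolynomial σ B)) {h : MvPolynomial σ B} (hh : h ∈ P) (m : σ →₀ ℕ) :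
    MvPolynomial.C (h.coeff m) ∈ P := by
  have := hP.1.1
  let p0 := P.comap (MvPolynomial.C : B →+* MvPolynomial σ B)
  have : p0.IsPrime := inferInstance
  have : (Ideal.map (MvPolynomial.C : B →+* MvPolynomial σ B) p0).IsPrime := by
    rw [← Ideal.Quotient.isDomain_iff_prime]
    exact (MvPolynomial.quotientEquivQuotientMvPolynomial (σ := σ) p0).toRingEquiv.symm.injective.isDomain
      (MvPolynomial.quotientEquivQuotientMvPolynomial (σ := σ) p0).toRingEquiv.symm.toRingHom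
  have hle : P ≤ Ideal.map MvPolynomial.C p0 := hP.2 ⟨this, bot_le⟩ Ideal.map_comap_le
  exact MvPolynomial.mem_map_C_iff.1 (hle hh) m

variable (R R₁ R₂ K K₁ K₂ : Type u) [CommRing R] [CommRing R₁] [CommRing R₂] [Field K] [Field K₁] [Field K₂]
  [Algebra R R₁] [Algebra R R₂] [Algebra R K] [Algebra R K₁] [Algebra R K₂] [Algebra R₁ K₁] [Algebra R₂ K₂]
  [IsScalarTower R R₁ K₁] [IsScalarTower R R₂ K₂] [Algebra K K₁] [Algebra K K₂] [IsScalarTower R K K₁]
  [IsScalarTower R K K₂]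

theorem exists_prime_minimal [Module.Flat R₁ K₁] [Module.Flat R₂ K₂] [FaithfulSMul R K] [Algebra.IsAlgebraic R K] :
    ∃ P : Ideal (K₁ ⊗[R] K₂), P.IsPrime ∧
      (∀ a : K, (algebraMap K K₁ a) ⊗ₜ[R] (1 : K₂) - (1 : K₁) ⊗ₜ[R] algebraMap K K₂ a ∈ P) ∧
      P.comap (Algebra.TensorProduct.map (IsScalarTower.toAlgHom R R₁ K₁)
        (IsScalarTower.toAlgHom R R₂ K₂)).toRingHom ∈ minimalPrimes (R₁ ⊗[R] R₂) := by
  classical
  let W := K₁ ⊗[R] K₂
  let μ : K ⊗[R] K →+* K := (Algebra.TensorProduct.lmul' R (S := K)).toRingHom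
  let M := RingHom.ker μ
  have : M.IsPrime := RingHom.ker_isPrime μ
  let j : K ⊗[R] K →ₐ[R] W := Algebra.TensorProduct.map (IsScalarTower.toAlgHom R K K₁)
    (IsScalarTower.toAlgHom R K K₂)
  -- `M` is a minimal prime
  have hint : Algebra.IsIntegral K (K ⊗[R] K) := ⟨fun z => by
    induction z using TensorProduct.induction_on with
    | zero => exact isIntegral_zero
    | add x y hx hy => exact hx.add hy
    | tmul a b =>
      have h1 : IsIntegral K ((1 : K) ⊗ₜ[R] b : K ⊗[R] K) := by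
        obtain ⟨f, hf, hfb⟩ := Algebra.IsAlgebraic.isAlgebraic (R := R) b
        refine IsAlgebraic.isIntegral ⟨f.map (algebraMap R K),
          (Polynomial.map_ne_zero_iff (FaithfulSMul.algebraMap_injective R K)).2 hf, ?_⟩
        rw [Polynomial.aeval_map_algebraMap]
        have h := Polynomial.aeval_algHom_apply (Algebra.TensorProduct.includeRight : K →ₐ[R] K ⊗[R] K) b f
        rw [hfb, map_zero] at h
        exact h
      have h2 : (a ⊗ₜ b : K ⊗[R] K) = a • ((1 : K) ⊗ₜ[R] b) := by rw [TensorProduct.smul_tmul', smul_eq_mul, mul_one]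
      rw [h2]
      exact h1.smul a⟩
  have hMmin : ∀ p : Ideal (K ⊗[R] K), p.IsPrime → p ≤ M → M ≤ p := fun p hp hle => by
    have : (p.comap (algebraMap K (K ⊗[R] K))).IsMaximal := by
      have : (p.comap (algebraMap K (K ⊗[R] K))).IsPrime := inferInstance
      rw [(Ideal.eq_bot_or_top _).resolve_right this.ne_top]
      exact Ideal.bot_isMaximal
    have := Ideal.isMaximal_of_isIntegral_of_isMaximal_comap (R := K) p this
    exact (this.eq_of_le (Ideal.IsPrime.ne_top inferInstance) hle).ge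
  -- some prime of `W` over `M`, then a minimal one below it
  obtain ⟨N, hN⟩ := Ideal.exists_maximal (K₁ ⊗[K] K₂)
  let ρ : W →+* (K₁ ⊗[K] K₂) ⧸ N := (Ideal.Quotient.mk N).comp
    (Algebra.TensorProduct.lift
      ((Algebra.TensorProduct.includeLeft : K₁ →ₐ[K] K₁ ⊗[K] K₂).restrictScalars R)
      ((Algebra.TensorProduct.includeRight : K₂ →ₐ[K] K₁ ⊗[K] K₂).restrictScalars R)
      (fun _ _ => Commute.all _ _)).toRingHom
  let Q := RingHom.ker ρ
  have : Q.IsPrime := RingHom.ker_isPrime ρ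
  have hjQ : Q.comap j.toRingHom ≤ M := by
    intro z hz
    have key : ∀ w, ρ (j w) = Ideal.Quotient.mk N (algebraMap K (K₁ ⊗[K] K₂) (μ w)) := by
      intro w
      induction w using TensorProduct.induction_on with
      | zero => simp
      | add x y hx hy => simp only [map_add, hx, hy]
      | tmul a b =>
        have e : ∀ c : K, ((1 : K₁) ⊗ₜ[K] algebraMap K K₂ c) = algebraMap K (K₁ ⊗[K] K₂) c := fun c =>
          (Algebra.TensorProduct.includeRight : K₂ →ₐ[K] K₁ ⊗[K] K₂).commutes c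
        change Ideal.Quotient.mk N ((algebraMap K K₁ a ⊗ₜ[K] (1 : K₂)) * ((1 : K₁) ⊗ₜ[K] algebraMap K K₂ b)) = _
        rw [e, show algebraMap K K₁ a ⊗ₜ[K] (1 : K₂) = algebraMap K (K₁ ⊗[K] K₂) a from rfl, ← map_mul]
        rfl
    rw [Ideal.mem_comap, RingHom.mem_ker] at hz
    have hz' : Ideal.Quotient.mk N (algebraMap K (K₁ ⊗[K] K₂) (μ z)) = 0 := (key z).symm.trans hz
    exact ((Ideal.Quotient.mk N).comp (algebraMap K (K₁ ⊗[K] K₂))).injective (hz'.trans (map_zero _).symm)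
  obtain ⟨P, hP, hPQ⟩ := Ideal.exists_minimalPrimes_le (I := (⊥ : Ideal W)) (J := Q) bot_le
  have := hP.1.1
  refine ⟨P, this, fun a => ?_, ?_⟩
  · have hM : M ≤ P.comap j.toRingHom :=
      hMmin _ inferInstance ((Ideal.comap_mono hPQ).trans hjQ)
    have h1 : (a ⊗ₜ[R] (1 : K) - (1 : K) ⊗ₜ[R] a) ∈ M := by simp [M, μ, RingHom.mem_ker]
    have h2 := hM h1
    rw [Ideal.mem_comap, map_sub] at h2
    have e1 : j (a ⊗ₜ[R] (1 : K)) = algebraMap K K₁ a ⊗ₜ[R] (1 : K₂) := by
      change algebraMap K K₁ a ⊗ₜ[R] algebraMap K K₂ 1 = _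
      rw [map_one]
    have e2 : j ((1 : K) ⊗ₜ[R] a) = (1 : K₁) ⊗ₜ[R] algebraMap K K₂ a := by
      change algebraMap K K₁ 1 ⊗ₜ[R] algebraMap K K₂ a = _
      rw [map_one]
    rw [← e1, ← e2]
    exact h2
  · let φ := Algebra.TensorProduct.map (IsScalarTower.toAlgHom R R₁ K₁) (IsScalarTower.toAlgHom R R₂ K₂)
    have hflat : φ.toRingHom.Flat := RingHom.Flat.tensorProductMap
      (RingHom.flat_algebraMap_iff.2 ‹_› : (algebraMap R₁ K₁).Flat)
      (RingHom.flat_algebraMap_iff.2 ‹_› : (algebraMap R₂ K₂).Flat)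
    let _ : Algebra (R₁ ⊗[R] R₂) W := φ.toRingHom.toAlgebra
    have : Module.Flat (R₁ ⊗[R] R₂) W := hflat
    refine ⟨⟨inferInstance, bot_le⟩, fun p' hp' hle => ?_⟩
    have := hp'.1
    have : P.LiesOver (P.comap φ.toRingHom) := ⟨rfl⟩
    obtain ⟨P', hP'le, hP'prime, hP'over⟩ := Ideal.exists_ideal_le_liesOver_of_le (q := P.comap φ.toRingHom) (p := p') P hle
    have hEq : P' = P := le_antisymm hP'le (hP.2 ⟨hP'prime, bot_le⟩ hP'le)
    subst hEq
    exact hP'over.over.ge

end Groth.PairTrdeg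

namespace Groth.PairTrdeg

open MvPolynomial in
theorem flat_of_injective_into_field (A L : Type u) [CommRing A] [IsDomain A] [Field L] [Algebra A L]
    [FaithfulSMul A L] : Module.Flat A L := by
  let _ := FractionRing.liftAlgebra A L
  have : Module.Flat A (FractionRing A) := IsLocalization.flat _ (nonZeroDivisors A)
  exact Module.Flat.trans A (FractionRing A) L

/-- Glue two extensions `Kᵢ` of `K` so that `t` stays independent over the compositum of the `kᵢ`. -/
theorem exists_glue (k K k₁ k₂ K₁ K₂ : Type u) [Field k] [Field K] [Field k₁] [Field k₂] [Field K₁] [Field K₂]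
    [Algebra k K] [Algebra k k₁] [Algebra k k₂] [Algebra k₁ K₁] [Algebra k₂ K₂] [Algebra K K₁] [Algebra K K₂]
    (h₁ : (algebraMap K K₁).comp (algebraMap k K) = (algebraMap k₁ K₁).comp (algebraMap k k₁))
    (h₂ : (algebraMap K K₂).comp (algebraMap k K) = (algebraMap k₂ K₂).comp (algebraMap k k₂))
    {σ : Type u} (t : σ → K) (ht : IsTranscendenceBasis k t)
    (ht₁ : AlgebraicIndependent k₁ (algebraMap K K₁ ∘ t)) (ht₂ : AlgebraicIndependent k₂ (algebraMap K K₂ ∘ t)) :
    ∃ (Ω : Type u) (_ : Field Ω) (σ₁ : K₁ →+* Ω) (σ₂ : K₂ →+* Ω) (γ : k₁ ⊗[k] k₂ →+* Ω),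
      σ₁.comp (algebraMap K K₁) = σ₂.comp (algebraMap K K₂) ∧
      (∀ a, γ (a ⊗ₜ[k] 1) = σ₁ (algebraMap k₁ K₁ a)) ∧ (∀ b, γ (1 ⊗ₜ[k] b) = σ₂ (algebraMap k₂ K₂ b)) ∧
      ∀ h : MvPolynomial σ (k₁ ⊗[k] k₂),
        MvPolynomial.eval₂Hom γ (fun i => σ₁ (algebraMap K K₁ (t i))) h = 0 → ∀ m, γ (h.coeff m) = 0 := by
  classical
  let R := MvPolynomial σ k
  let R₁ := MvPolynomial σ k₁
  let R₂ := MvPolynomial σ k₂
  let B := k₁ ⊗[k] k₂
  let _ : Algebra R R₁ := (MvPolynomial.map (algebraMap k k₁)).toAlgebra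
  let _ : Algebra R R₂ := (MvPolynomial.map (algebraMap k k₂)).toAlgebra
  let _ : Algebra R K := (MvPolynomial.aeval t).toRingHom.toAlgebra
  let _ : Algebra R₁ K₁ := (MvPolynomial.aeval (algebraMap K K₁ ∘ t)).toRingHom.toAlgebra
  let _ : Algebra R₂ K₂ := (MvPolynomial.aeval (algebraMap K K₂ ∘ t)).toRingHom.toAlgebra
  let _ : Algebra R K₁ := ((algebraMap K K₁).comp (algebraMap R K)).toAlgebra
  let _ : Algebra R K₂ := ((algebraMap K K₂).comp (algebraMap R K)).toAlgebra
  have : IsScalarTower R K K₁ := IsScalarTower.of_algebraMap_eq' rfl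
  have : IsScalarTower R K K₂ := IsScalarTower.of_algebraMap_eq' rfl
  have : IsScalarTower R R₁ K₁ := IsScalarTower.of_algebraMap_eq' <| MvPolynomial.ringHom_ext
    (fun c => by
      change algebraMap K K₁ (MvPolynomial.aeval t (MvPolynomial.C c)) =
        MvPolynomial.aeval (algebraMap K K₁ ∘ t) (MvPolynomial.map (algebraMap k k₁) (MvPolynomial.C c))
      rw [MvPolynomial.map_C, MvPolynomial.aeval_C, MvPolynomial.aeval_C]
      exact RingHom.congr_fun h₁ c)
    (fun i => by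
      change algebraMap K K₁ (MvPolynomial.aeval t (MvPolynomial.X i)) =
        MvPolynomial.aeval (algebraMap K K₁ ∘ t) (MvPolynomial.map (algebraMap k k₁) (MvPolynomial.X i))
      rw [MvPolynomial.map_X, MvPolynomial.aeval_X, MvPolynomial.aeval_X]
      rfl)
  have : IsScalarTower R R₂ K₂ := IsScalarTower.of_algebraMap_eq' <| MvPolynomial.ringHom_ext
    (fun c => by
      change algebraMap K K₂ (MvPolynomial.aeval t (MvPolynomial.C c)) =
        MvPolynomial.aeval (algebraMap K K₂ ∘ t) (MvPolynomial.map (algebraMap k k₂) (MvPolynomial.C c))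
      rw [MvPolynomial.map_C, MvPolynomial.aeval_C, MvPolynomial.aeval_C]
      exact RingHom.congr_fun h₂ c)
    (fun i => by
      change algebraMap K K₂ (MvPolynomial.aeval t (MvPolynomial.X i)) =
        MvPolynomial.aeval (algebraMap K K₂ ∘ t) (MvPolynomial.map (algebraMap k k₂) (MvPolynomial.X i))
      rw [MvPolynomial.map_X, MvPolynomial.aeval_X, MvPolynomial.aeval_X]
      rfl)
  have : FaithfulSMul R K := (faithfulSMul_iff_algebraMap_injective _ _).2 ht.1
  have : FaithfulSMul R₁ K₁ := (faithfulSMul_iff_algebraMap_injective _ _).2 ht₁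
  have : FaithfulSMul R₂ K₂ := (faithfulSMul_iff_algebraMap_injective _ _).2 ht₂
  have : Module.Flat R₁ K₁ := flat_of_injective_into_field R₁ K₁
  have : Module.Flat R₂ K₂ := flat_of_injective_into_field R₂ K₂
  have : Algebra.IsAlgebraic R K := by
    have := ht.isAlgebraic
    let e : R ≃ₐ[k] Algebra.adjoin k (Set.range t) := ht.1.aevalEquiv
    refine ⟨fun a => ?_⟩
    obtain ⟨f, hf, hfa⟩ := Algebra.IsAlgebraic.isAlgebraic (R := Algebra.adjoin k (Set.range t)) a
    refine ⟨f.map e.symm.toRingEquiv.toRingHom, (Polynomial.map_ne_zero_iff e.symm.injective).2 hf, ?_⟩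
    rw [Polynomial.aeval_def, Polynomial.eval₂_map]
    have : (algebraMap R K).comp e.symm.toRingEquiv.toRingHom = algebraMap (Algebra.adjoin k (Set.range t)) K := by
      refine RingHom.ext fun z => ?_
      obtain ⟨w, rfl⟩ := e.surjective z
      change MvPolynomial.aeval t (e.symm (e w)) = _
      rw [e.symm_apply_apply]
      rfl
    rw [this]
    exact hfa
  obtain ⟨P, hPprime, hPdiag, hPmin⟩ := exists_prime_minimal R R₁ R₂ K K₁ K₂
  let D := R₁ ⊗[R] R₂
  let φ := Algebra.TensorProduct.map (IsScalarTower.toAlgHom R R₁ K₁) (IsScalarTower.toAlgHom R R₂ K₂)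
  -- `D` is a polynomial ring over `B`
  have : IsScalarTower k R R₁ := IsScalarTower.of_algebraMap_eq fun c => (MvPolynomial.map_C _ c).symm
  have : IsScalarTower k R R₂ := IsScalarTower.of_algebraMap_eq fun c => (MvPolynomial.map_C _ c).symm
  let il : k₁ →ₐ[k] B := Algebra.TensorProduct.includeLeft
  let ir : k₂ →ₐ[k] B := Algebra.TensorProduct.includeRight
  let _ : Algebra R (MvPolynomial σ B) := (MvPolynomial.map (algebraMap k B)).toAlgebra
  have hc₁ : ∀ p : R, MvPolynomial.map il.toRingHom (algebraMap R R₁ p) = algebraMap R (MvPolynomial σ B) p := fun p => by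
    change MvPolynomial.map il.toRingHom (MvPolynomial.map (algebraMap k k₁) p) = MvPolynomial.map (algebraMap k B) p
    rw [MvPolynomial.map_map]
    exact congrArg (fun f => MvPolynomial.map f p) il.comp_algebraMap
  let i₁ : R₁ →ₐ[R] MvPolynomial σ B := ⟨MvPolynomial.map il.toRingHom, hc₁⟩
  have hc₂ : ∀ p : R, MvPolynomial.map ir.toRingHom (algebraMap R R₂ p) = algebraMap R (MvPolynomial σ B) p := fun p => by
    change MvPolynomial.map ir.toRingHom (MvPolynomial.map (algebraMap k k₂) p) = MvPolynomial.map (algebraMap k B) p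
    rw [MvPolynomial.map_map]
    exact congrArg (fun f => MvPolynomial.map f p) ir.comp_algebraMap
  let i₂ : R₂ →ₐ[R] MvPolynomial σ B := ⟨MvPolynomial.map ir.toRingHom, hc₂⟩
  let Θ : D →ₐ[R] MvPolynomial σ B := Algebra.TensorProduct.lift i₁ i₂ fun _ _ => Commute.all _ _
  let γ₀ : B →ₐ[k] D := Algebra.TensorProduct.lift
    ((((Algebra.TensorProduct.includeLeft : R₁ →ₐ[R] D)).restrictScalars k).comp (IsScalarTower.toAlgHom k k₁ R₁))
    ((((Algebra.TensorProduct.includeRight : R₂ →ₐ[R] D)).restrictScalars k).comp (IsScalarTower.toAlgHom k k₂ R₂))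
    fun _ _ => Commute.all _ _
  let Ψ : MvPolynomial σ B →+* D :=
    MvPolynomial.eval₂Hom γ₀.toRingHom fun i => (MvPolynomial.X i : R₁) ⊗ₜ[R] (1 : R₂)
  have hγ : ∀ (a : k₁) (b : k₂),
      γ₀ (a ⊗ₜ[k] b) = (MvPolynomial.C a : R₁) ⊗ₜ[R] (MvPolynomial.C b : R₂) := fun a b => by
    refine (Algebra.TensorProduct.lift_tmul _ _ _ a b).trans ?_
    change ((MvPolynomial.C a : R₁) ⊗ₜ[R] (1 : R₂)) * ((1 : R₁) ⊗ₜ[R] (MvPolynomial.C b : R₂)) = _
    rw [Algebra.TensorProduct.tmul_mul_tmul, mul_one, one_mul]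
  have hΘ : ∀ (p : R₁) (q : R₂), Θ (p ⊗ₜ[R] q) = i₁ p * i₂ q := fun p q => Algebra.TensorProduct.lift_tmul _ _ _ p q
  have hφ : ∀ (p : R₁) (q : R₂), φ (p ⊗ₜ[R] q) = algebraMap R₁ K₁ p ⊗ₜ[R] algebraMap R₂ K₂ q := fun p q => rfl
  have hX : ∀ i, algebraMap R₁ K₁ (MvPolynomial.X i) = algebraMap K K₁ (t i) := fun i => MvPolynomial.aeval_X _ i
  have hC₁ : ∀ a, algebraMap R₁ K₁ (MvPolynomial.C a) = algebraMap k₁ K₁ a := fun a => MvPolynomial.aeval_C _ a
  have hC₂ : ∀ a, algebraMap R₂ K₂ (MvPolynomial.C a) = algebraMap k₂ K₂ a := fun a => MvPolynomial.aeval_C _ a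
  have hXX : ∀ i, (MvPolynomial.X i : R₁) ⊗ₜ[R] (1 : R₂) = (1 : R₁) ⊗ₜ[R] (MvPolynomial.X i : R₂) := fun i => by
    rw [show (MvPolynomial.X i : R₁) = algebraMap R R₁ (MvPolynomial.X i) from (MvPolynomial.map_X _ i).symm,
      show (MvPolynomial.X i : R₂) = algebraMap R R₂ (MvPolynomial.X i) from (MvPolynomial.map_X _ i).symm,
      Algebra.algebraMap_eq_smul_one, TensorProduct.smul_tmul, ← Algebra.algebraMap_eq_smul_one]
  have hΨ₁ : ∀ p : R₁, Ψ (i₁ p) = p ⊗ₜ 1 := fun p => RingHom.congr_fun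
    (show Ψ.comp i₁.toRingHom = (Algebra.TensorProduct.includeLeftRingHom : R₁ →+* D) from MvPolynomial.ringHom_ext
      (fun c => by
        change Ψ (MvPolynomial.map il.toRingHom (MvPolynomial.C c)) = (MvPolynomial.C c : R₁) ⊗ₜ[R] (1 : R₂)
        rw [MvPolynomial.map_C, MvPolynomial.eval₂Hom_C]
        exact (hγ c 1).trans (by rw [map_one]))
      (fun i => by
        change Ψ (MvPolynomial.map il.toRingHom (MvPolynomial.X i)) = (MvPolynomial.X i : R₁) ⊗ₜ[R] (1 : R₂)
        rw [MvPolynomial.map_X, MvPolynomial.eval₂Hom_X'])) p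
  have hΨ₂ : ∀ q : R₂, Ψ (i₂ q) = 1 ⊗ₜ q := fun q => RingHom.congr_fun
    (show Ψ.comp i₂.toRingHom = (Algebra.TensorProduct.includeRight : R₂ →ₐ[R] D).toRingHom from MvPolynomial.ringHom_ext
      (fun c => by
        change Ψ (MvPolynomial.map ir.toRingHom (MvPolynomial.C c)) = (1 : R₁) ⊗ₜ[R] (MvPolynomial.C c : R₂)
        rw [MvPolynomial.map_C, MvPolynomial.eval₂Hom_C]
        exact (hγ 1 c).trans (by rw [map_one]))
      (fun i => by
        change Ψ (MvPolynomial.map ir.toRingHom (MvPolynomial.X i)) = (1 : R₁) ⊗ₜ[R] (MvPolynomial.X i : R₂)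
        rw [MvPolynomial.map_X, MvPolynomial.eval₂Hom_X', hXX])) q
  have hΨΘ : ∀ z, Ψ (Θ z) = z := fun z => by
    induction z using TensorProduct.induction_on with
    | zero => simp
    | tmul p q =>
      rw [Algebra.TensorProduct.lift_tmul, map_mul, hΨ₁, hΨ₂, Algebra.TensorProduct.tmul_mul_tmul, mul_one, one_mul]
    | add x y hx hy => rw [map_add, map_add, hx, hy]
  have hΘΨ : ∀ z, Θ (Ψ z) = z := fun z => RingHom.congr_fun
    (show Θ.toRingHom.comp Ψ = RingHom.id _ from MvPolynomial.ringHom_ext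
      (fun c => by
        induction c using TensorProduct.induction_on with
        | zero => simp
        | tmul a b =>
          change Θ (Ψ (MvPolynomial.C (a ⊗ₜ[k] b))) = MvPolynomial.C (a ⊗ₜ[k] b)
          rw [MvPolynomial.eval₂Hom_C]
          change Θ (γ₀ (a ⊗ₜ[k] b)) = _
          rw [hγ, hΘ]
          change MvPolynomial.map il.toRingHom (MvPolynomial.C a) * MvPolynomial.map ir.toRingHom (MvPolynomial.C b) = _
          rw [MvPolynomial.map_C, MvPolynomial.map_C, ← map_mul]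
          refine congrArg MvPolynomial.C ?_
          change (a ⊗ₜ[k] (1 : k₂)) * ((1 : k₁) ⊗ₜ[k] b) = a ⊗ₜ[k] b
          rw [Algebra.TensorProduct.tmul_mul_tmul, mul_one, one_mul]
        | add x y hx hy => simp only [map_add, hx, hy])
      (fun i => by
        change Θ (Ψ (MvPolynomial.X i)) = MvPolynomial.X i
        rw [MvPolynomial.eval₂Hom_X', hΘ, map_one i₂, mul_one]
        exact MvPolynomial.map_X _ i)) z
  -- the minimal prime of `B[t]`
  let P' := (P.comap φ.toRingHom).comap Ψ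
  have hP' : P' ∈ minimalPrimes (MvPolynomial σ B) := by
    have := hPmin.1.1
    refine ⟨⟨inferInstance, bot_le⟩, fun p hp hle => ?_⟩
    have := hp.1
    intro z hz
    have h1 := hPmin.2 ⟨(inferInstance : (p.comap Θ.toRingHom).IsPrime), bot_le⟩
      (show p.comap Θ.toRingHom ≤ P.comap φ.toRingHom from fun w hw => by
        have h3 : Ψ (Θ w) ∈ P.comap φ.toRingHom := hle hw
        rwa [hΨΘ] at h3) (show Ψ z ∈ P.comap φ.toRingHom from hz)
    rw [Ideal.mem_comap] at h1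
    exact hΘΨ z ▸ h1
  let Ω := FractionRing ((K₁ ⊗[R] K₂) ⧸ P)
  let π : K₁ ⊗[R] K₂ →+* Ω := (algebraMap ((K₁ ⊗[R] K₂) ⧸ P) Ω).comp (Ideal.Quotient.mk P)
  have hπ : ∀ z, π z = 0 ↔ z ∈ P := fun z => by
    simp only [π, RingHom.comp_apply, map_eq_zero_iff _ (IsFractionRing.injective ((K₁ ⊗[R] K₂) ⧸ P) Ω),
      Ideal.Quotient.eq_zero_iff_mem]
  let s₁ : K₁ →+* Ω := π.comp Algebra.TensorProduct.includeLeftRingHom
  let s₂ : K₂ →+* Ω := π.comp (Algebra.TensorProduct.includeRight : K₂ →ₐ[R] K₁ ⊗[R] K₂).toRingHom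
  have hev : MvPolynomial.eval₂Hom ((π.comp φ.toRingHom).comp γ₀.toRingHom) (fun i => s₁ (algebraMap K K₁ (t i))) =
      (π.comp φ.toRingHom).comp Ψ := MvPolynomial.ringHom_ext
    (fun c => by simp [Ψ]) (fun i => by
      rw [MvPolynomial.eval₂Hom_X']
      change s₁ (algebraMap K K₁ (t i)) = π (φ (Ψ (MvPolynomial.X i)))
      rw [MvPolynomial.eval₂Hom_X', hφ, hX, map_one]
      rfl)
  refine ⟨Ω, inferInstance, s₁, s₂, (π.comp φ.toRingHom).comp γ₀.toRingHom, RingHom.ext fun a => ?_,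
    fun a => ?_, fun b => ?_, fun h hh m => ?_⟩
  · exact sub_eq_zero.1 ((map_sub π _ _).symm.trans ((hπ _).2 (hPdiag a)))
  · change π (φ (γ₀ (a ⊗ₜ[k] (1 : k₂)))) = π (algebraMap k₁ K₁ a ⊗ₜ[R] (1 : K₂))
    rw [hγ, hφ, hC₁, hC₂, map_one]
  · change π (φ (γ₀ ((1 : k₁) ⊗ₜ[k] b))) = π ((1 : K₁) ⊗ₜ[R] algebraMap k₂ K₂ b)
    rw [hγ, hφ, hC₁, hC₂, map_one]
  · rw [hev] at hh
    have h1 : Ψ (MvPolynomial.C (h.coeff m)) ∈ P.comap φ.toRingHom := coeff_mem_of_minimal hP' ((hπ _).1 hh) m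
    have h2 := (hπ _).2 h1
    rw [MvPolynomial.eval₂Hom_C] at h2
    exact h2

end Groth.PairTrdeg
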