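import Mathlib.RingTheory.AlgebraicIndependent.AlgebraicClosure
import Mathlib.RingTheory.AlgebraicIndependent.TranscendenceBasis
import Mathlib.RingTheory.AlgebraicIndependent.Adjoin
import Mathlib.FieldTheory.AlgebraicClosure
/-! # Transcendence bases of composite fields

* `Groth.PairTrdeg.isAlgebraic_adjoin_of_generated`: if `L` is generated by `K` and `k'` then a transcendence
  basis of `K/k` generates `L/k'` up to algebraic extensions.
* `Groth.PairTrdeg.isTranscendenceBasis_of_card`.
-/

universe u

namespace Groth.PairTrdeg

theorem isAlgebraic_adjoin_of_generated {k K k' L : Type u} [Field k] [Field K] [Field k'] [Field L]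
    [Algebra k K] [Algebra k' L] (ik : k →+* k') (iK : K →+* L)
    (hcomm : iK.comp (algebraMap k K) = (algebraMap k' L).comp ik)
    (hgen : Subfield.closure (Set.range (algebraMap k' L) ∪ Set.range iK) = ⊤)
    {ι : Type u} (t : ι → K) (ht : IsTranscendenceBasis k t) :
    Algebra.IsAlgebraic (Algebra.adjoin k' (Set.range (iK ∘ t))) L := by
  let M := IntermediateField.adjoin k' (Set.range (iK ∘ t))
  let N := IntermediateField.adjoin k (Set.range t)
  have hN : ∀ a ∈ N, iK a ∈ M := by
    intro a ha
    induction ha using IntermediateField.adjoin_induction with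
    | mem x hx =>
      obtain ⟨i, rfl⟩ := hx
      exact IntermediateField.subset_adjoin k' _ ⟨i, rfl⟩
    | algebraMap x => exact RingHom.congr_fun hcomm x ▸ M.algebraMap_mem _
    | add x y _ _ hx hy => rw [map_add]; exact add_mem hx hy
    | inv x _ hx => rw [map_inv₀]; exact inv_mem hx
    | mul x y _ _ hx hy => rw [map_mul]; exact mul_mem hx hy
  have hK : ∀ a : K, IsAlgebraic M (iK a) := by
    intro a
    have := ht.isAlgebraic_field
    let j : N →+* M := (iK.comp (algebraMap N K)).codRestrict M.toSubfield.toSubring fun b => hN b b.2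
    exact (Algebra.IsAlgebraic.isAlgebraic (R := N) a).ringHom_of_comp_eq j iK j.injective
      (RingHom.ext fun b => rfl)
  refine (IntermediateField.isAlgebraic_adjoin_iff_top (F := k') (E := L) (S := L)).1 ⟨fun z => ?_⟩
  have hle : Subfield.closure (Set.range (algebraMap k' L) ∪ Set.range iK) ≤ (algebraicClosure M L).toSubfield := by
    rw [Subfield.closure_le]
    rintro _ (⟨c, rfl⟩ | ⟨a, rfl⟩)
    · exact mem_algebraicClosure_iff.2 (isAlgebraic_algebraMap (⟨algebraMap k' L c, M.algebraMap_mem c⟩ : M))
    · exact mem_algebraicClosure_iff.2 (hK a)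
  rw [hgen] at hle
  exact mem_algebraicClosure_iff.1 (hle (Subfield.mem_top z))

theorem isTranscendenceBasis_of_card {k L : Type u} [Field k] [Field L] [Algebra k L] {ι : Type u} [Finite ι]
    (x : ι → L) [Algebra.IsAlgebraic (Algebra.adjoin k (Set.range x)) L] (h : Cardinal.mk ι = Algebra.trdeg k L) :
    IsTranscendenceBasis k x := by
  obtain ⟨s, hs, hsb⟩ := exists_isTranscendenceBasis_subset (R := k) (Set.range x)
  have hcard : Nat.card s = Nat.card ι := by
    rw [Nat.card, Nat.card, hsb.cardinalMk_eq_trdeg, h]
  have hfin : (Set.range x).Finite := Set.finite_range x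
  have h2 : Nat.card (Set.range x) ≤ Nat.card ι := Finite.card_range_le x
  have heq : s = Set.range x := Set.eq_of_subset_of_ncard_le hs (by
    rw [← Nat.card_coe_set_eq, ← Nat.card_coe_set_eq, hcard]; exact h2) hfin
  have : Finite (Set.range x) := hfin.to_subtype
  have hinj : Function.Injective x := by
    have : Nat.card (Set.range x) = Nat.card ι := by rw [← hcard, heq]
    intro a b hab
    have hb : Function.Bijective (Set.rangeFactorization x) :=
      (Nat.bijective_iff_surjective_and_card _).2 ⟨Set.rangeFactorization_surjective, this.symm⟩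
    exact hb.1 (Subtype.ext hab)
  subst heq
  exact (isTranscendenceBasis_subtype_range hinj).1 hsb

end Groth.PairTrdeg
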