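import Groth.Agent.Misc1.PairTrdeg.Field
import Mathlib.AlgebraicGeometry.ResidueField
import Mathlib.AlgebraicGeometry.Pullbacks
import Mathlib.CategoryTheory.Limits.Shapes.Pullback.IsPullback.Basic
/-! # Residue fields at points of fibre products

* `Groth.PairTrdeg.residueMap`: `κ(y) → κ(x)` for `f x = y`.
* `Groth.PairTrdeg.residue_generated`: the residue field of a point of a fibre product is generated by the two
  residue fields below it.
* `Groth.PairTrdeg.isAlgebraic_adjoin_of_isPullback`.
-/

universe u

open CategoryTheory CategoryTheory.Limits AlgebraicGeometry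

namespace Groth.PairTrdeg

/-- The map of residue fields attached to `f x = y`. -/
noncomputable def residueMap {X Y : Scheme.{u}} (f : X ⟶ Y) (x : X) (y : Y) (h : f x = y) :
    Y.residueField y ⟶ X.residueField x :=
  (Y.residueFieldCongr h.symm).hom ≫ f.residueFieldMap x

theorem residueMap_rfl {X Y : Scheme.{u}} (f : X ⟶ Y) (x : X) :
    residueMap f x (f x) rfl = f.residueFieldMap x := by
  simp [residueMap]

@[reassoc]
theorem residueMap_fromSpec {X Y : Scheme.{u}} (f : X ⟶ Y) (x : X) (y : Y) (h : f x = y) :
    Spec.map (residueMap f x y h) ≫ Y.fromSpecResidueField y = X.fromSpecResidueField x ≫ f := by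
  subst h
  rw [residueMap_rfl]
  exact f.SpecMap_residueFieldMap_fromSpecResidueField x

theorem residue_hom_ext {X : Scheme.{u}} {x : X} {R : CommRingCat.{u}} {a b : X.residueField x ⟶ R}
    (h : Spec.map a ≫ X.fromSpecResidueField x = Spec.map b ≫ X.fromSpecResidueField x) : a = b :=
  Spec.map_injective ((cancel_mono (X.fromSpecResidueField x)).1 h)

theorem residueMap_comm {P X Y S : Scheme.{u}} {fst : P ⟶ X} {snd : P ⟶ Y} {f : X ⟶ S} {g : Y ⟶ S}
    (w : fst ≫ f = snd ≫ g) (z : P) (x : X) (hx : fst z = x) (y : Y) (hy : snd z = y) (s : S) (hfs : f x = s)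
    (hgs : g y = s) :
    residueMap f x s hfs ≫ residueMap fst z x hx = residueMap g y s hgs ≫ residueMap snd z y hy := by
  refine residue_hom_ext ?_
  simp only [Spec.map_comp, Category.assoc, residueMap_fromSpec, residueMap_fromSpec_assoc, w]

theorem eq_point_of_fac {X : Scheme.{u}} {K : Type u} [Field K] {x : X} (a : X.residueField x ⟶ CommRingCat.of K)
    (s : Spec (CommRingCat.of K)) : (Spec.map a ≫ X.fromSpecResidueField x) s = x := by
  simp

/-- The residue field of a point of a fibre product is generated by the residue fields below it. -/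
theorem residue_generated {P X Y S : Scheme.{u}} {fst : P ⟶ X} {snd : P ⟶ Y} {f : X ⟶ S} {g : Y ⟶ S}
    (hP : IsPullback fst snd f g) (z : P) (x : X) (hx : fst z = x) (y : Y) (hy : snd z = y) :
    Subfield.closure (Set.range (residueMap snd z y hy).hom ∪ Set.range (residueMap fst z x hx).hom) =
      (⊤ : Subfield (P.residueField z)) := by
  set F := Subfield.closure (Set.range (residueMap snd z y hy).hom ∪ Set.range (residueMap fst z x hx).hom)
  let ι : CommRingCat.of F ⟶ P.residueField z := CommRingCat.ofHom F.subtype
  let a : X.residueField x ⟶ CommRingCat.of F := CommRingCat.ofHom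
    ((residueMap fst z x hx).hom.codRestrict F.toSubring fun c => Subfield.subset_closure (Or.inr ⟨c, rfl⟩))
  let b : Y.residueField y ⟶ CommRingCat.of F := CommRingCat.ofHom
    ((residueMap snd z y hy).hom.codRestrict F.toSubring fun c => Subfield.subset_closure (Or.inl ⟨c, rfl⟩))
  have ha : a ≫ ι = residueMap fst z x hx := rfl
  have hb : b ≫ ι = residueMap snd z y hy := rfl
  have hs : g y = f x := by
    rw [← hx, ← hy]
    exact congrArg (fun φ => φ z) hP.w.symm
  have hab : residueMap f x (f x) rfl ≫ a = residueMap g y (f x) hs ≫ b := by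
    have h := residueMap_comm hP.w z x hx y hy (f x) rfl hs
    rw [← ha, ← hb] at h
    exact CommRingCat.hom_ext (RingHom.ext fun c => Subtype.ext (congrArg (fun φ => φ.hom c) h))
  let w : Spec (CommRingCat.of F) ⟶ P := hP.lift (Spec.map a ≫ X.fromSpecResidueField x)
    (Spec.map b ≫ Y.fromSpecResidueField y) (by
      rw [Category.assoc, Category.assoc, ← residueMap_fromSpec f x (f x) rfl, ← residueMap_fromSpec g y (f x) hs,
        ← Spec.map_comp_assoc, ← Spec.map_comp_assoc, hab])
  have hιw : Spec.map ι ≫ w = P.fromSpecResidueField z := hP.hom_ext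
    (by rw [Category.assoc, hP.lift_fst, ← Spec.map_comp_assoc, ha, residueMap_fromSpec])
    (by rw [Category.assoc, hP.lift_snd, ← Spec.map_comp_assoc, hb, residueMap_fromSpec])
  obtain ⟨⟨z', φ⟩, hw⟩ := (Scheme.SpecToEquivOfField F P).symm.surjective w
  change Spec.map φ ≫ P.fromSpecResidueField z' = w at hw
  have hz : z' = z := by
    have e := congrArg (fun m => m (IsLocalRing.closedPoint (P.residueField z))) hιw
    rw [← hw] at e
    simpa using e
  subst hz
  have h1 : φ ≫ ι = 𝟙 _ := residue_hom_ext (by
    rw [Spec.map_comp, Category.assoc, hw, hιw, Spec.map_id, Category.id_comp])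
  refine eq_top_iff.2 fun c _ => ?_
  have h2 : (φ.hom c : P.residueField z') = c := congrArg (fun m => m.hom c) h1
  exact h2 ▸ (φ.hom c).2

/-- A transcendence basis downstairs generates the base-changed extension up to algebraic elements. -/
theorem isAlgebraic_adjoin_of_isPullback {P X Y S : Scheme.{u}} {fst : P ⟶ X} {snd : P ⟶ Y} {f : X ⟶ S}
    {g : Y ⟶ S} (hP : IsPullback fst snd f g) (z : P) (x : X) (hx : fst z = x) {ι : Type u}
    (t : ι → X.residueField x)
    (ht : letI := (f.residueFieldMap x).hom.toAlgebra; IsTranscendenceBasis (S.residueField (f x)) t) :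
    letI := (snd.residueFieldMap z).hom.toAlgebra
    Algebra.IsAlgebraic (Algebra.adjoin (Y.residueField (snd z)) (Set.range ((residueMap fst z x hx).hom ∘ t)))
      (P.residueField z) := by
  let _ := (f.residueFieldMap x).hom.toAlgebra
  let _ := (snd.residueFieldMap z).hom.toAlgebra
  have hs : g (snd z) = f x := by
    rw [← hx]
    exact congrArg (fun φ => φ z) hP.w.symm
  refine isAlgebraic_adjoin_of_generated (residueMap g (snd z) (f x) hs).hom (residueMap fst z x hx).hom ?_ ?_ t ht
  · have h := residueMap_comm hP.w z x hx (snd z) rfl (f x) rfl hs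
    rw [residueMap_rfl f x, residueMap_rfl snd z] at h
    exact congrArg CommRingCat.Hom.hom h
  · have h := residue_generated hP z x hx (snd z) rfl
    rwa [residueMap_rfl snd z] at h

end Groth.PairTrdeg
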